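import Groth.Agent.Lib.DMod.Homology
import Groth.Agent.Lib.FlatSyz.TorDim
import Mathlib.RingTheory.Finiteness.Projective

/-!
Surjectivity of `Tor₁(L, q)` for a surjection `q`.
-/

set_option autoImplicit false
universe u

open CategoryTheory CategoryTheory.Limits MonoidalCategory TensorProduct

namespace Groth.Agent.TorSurjH7

open FlatSyz

variable {R : Type u} [CommRing R] {L M N : Type u} [AddCommGroup L] [Module R L] [AddCommGroup M] [Module R M]
  [AddCommGroup N] [Module R N]

/-- `Tor₁(L, q)` is surjective iff the connecting map `Tor₁(L, N) → L ⊗ ker q` vanishes. -/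
theorem epi_tor_one_map_iff (q : M →ₗ[R] N) (hq : Function.Surjective q) :
    Epi (((Tor (ModuleCat.{u} R) 1).obj (ModuleCat.of R L)).map (ModuleCat.ofHom q)) ↔
      Function.Injective ((LinearMap.ker q).subtype.lTensor L) := by
  let P := ProjectiveResolution.of (ModuleCat.of R M)
  let Q := ProjectiveResolution.of (ModuleCat.of R N)
  let g := ProjectiveResolution.lift (ModuleCat.ofHom q) P Q
  let F := (tensoringLeft (ModuleCat.{u} R)).obj (ModuleCat.of R L)
  haveI : Module.Projective R (P.complex.X 0) :=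
    (IsProjective.iff_projective (R := R) (P.complex.X 0)).2 (P.projective 0)
  haveI : Module.Projective R (Q.complex.X 0) :=
    (IsProjective.iff_projective (R := R) (Q.complex.X 0)).2 (Q.projective 0)
  let π : P.complex.X 0 →ₗ[R] M := (P.π.f 0).hom
  let ρ : Q.complex.X 0 →ₗ[R] N := (Q.π.f 0).hom
  have hπ : Function.Surjective π := (ModuleCat.epi_iff_surjective (P.π.f 0)).1 inferInstance
  have hρ : Function.Surjective ρ := (ModuleCat.epi_iff_surjective (Q.π.f 0)).1 inferInstance
  let φ : P.complex.X 0 →ₗ[R] Q.complex.X 0 := (g.f 0).hom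
  let φ₁ : P.complex.X 1 →ₗ[R] Q.complex.X 1 := (g.f 1).hom
  have hφ : ρ.comp φ = q.comp π :=
    congrArg ModuleCat.Hom.hom (ProjectiveResolution.lift_commutes_zero (ModuleCat.ofHom q) P Q)
  have hφd : φ.comp (dLin P 0) = (dLin Q 0).comp φ₁ :=
    congrArg ModuleCat.Hom.hom (g.comm 1 0).symm
  -- kernels
  let Kp : Submodule R (P.complex.X 0) := LinearMap.range (dLin P 0)
  let Kq : Submodule R (Q.complex.X 0) := LinearMap.range (dLin Q 0)
  have hKp : Kp = LinearMap.ker π := le_antisymm
    (LinearMap.range_le_ker_iff.2 (congrArg ModuleCat.Hom.hom P.complex_d_comp_π_f_zero))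
    fun x hx => (ShortComplex.moduleCat_exact_iff _).1 P.exact₀ x hx
  have hKq : Kq = LinearMap.ker ρ := le_antisymm
    (LinearMap.range_le_ker_iff.2 (congrArg ModuleCat.Hom.hom Q.complex_d_comp_π_f_zero))
    fun x hx => (ShortComplex.moduleCat_exact_iff _).1 Q.exact₀ x hx
  let KA : Submodule R (P.complex.X 0) := LinearMap.ker (q.comp π)
  have hsub : Kp ≤ KA := hKp.le.trans fun x hx => by
    rw [LinearMap.mem_ker, LinearMap.comp_apply, LinearMap.mem_ker.1 hx, map_zero]
  let φK : KA →ₗ[R] Kq := LinearMap.codRestrict Kq (φ ∘ₗ KA.subtype) fun x => by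
    rw [hKq, LinearMap.mem_ker, LinearMap.comp_apply, ← LinearMap.comp_apply ρ, hφ]
    exact x.2
  obtain ⟨b, hb⟩ := Module.projective_lifting_property (q.comp π) ρ (hq.comp hπ)
  let bK : Kq →ₗ[R] KA := LinearMap.codRestrict KA (b ∘ₗ Kq.subtype) fun x => by
    show (q.comp π).comp b x = 0
    rw [hb]
    exact LinearMap.mem_ker.1 (hKq.le x.2)
  have inv₁ : ∀ w, Kq.subtype.lTensor L w = 0 → φK.lTensor L (bK.lTensor L w) = w := by
    intro w hw
    let d : Q.complex.X 0 →ₗ[R] Kq := LinearMap.codRestrict Kq (φ.comp b - LinearMap.id) fun x => by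
      rw [hKq, LinearMap.mem_ker, LinearMap.sub_apply, map_sub, LinearMap.comp_apply, ← LinearMap.comp_apply ρ, hφ,
        ← LinearMap.comp_apply (q.comp π), hb, LinearMap.id_apply, sub_self]
    have : φK ∘ₗ bK = LinearMap.id + d ∘ₗ Kq.subtype := LinearMap.ext fun x => Subtype.ext (by
      simp [φK, bK, d])
    rw [← LinearMap.comp_apply, ← LinearMap.lTensor_comp, this, LinearMap.lTensor_add, LinearMap.lTensor_comp,
      LinearMap.add_apply, LinearMap.comp_apply, hw, map_zero, add_zero, LinearMap.lTensor_id, LinearMap.id_apply]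
  have inv₂ : ∀ w, KA.subtype.lTensor L w = 0 → bK.lTensor L (φK.lTensor L w) = w := by
    intro w hw
    let d : P.complex.X 0 →ₗ[R] KA := LinearMap.codRestrict KA (b.comp φ - LinearMap.id) fun x => by
      rw [LinearMap.mem_ker, LinearMap.sub_apply, map_sub, LinearMap.comp_apply b φ, ← LinearMap.comp_apply (q.comp π),
        hb, ← LinearMap.comp_apply ρ, hφ, LinearMap.id_apply, sub_self]
    have : bK ∘ₗ φK = LinearMap.id + d ∘ₗ KA.subtype := LinearMap.ext fun x => Subtype.ext (by
      simp [φK, bK, d])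
    rw [← LinearMap.comp_apply, ← LinearMap.lTensor_comp, this, LinearMap.lTensor_add, LinearMap.lTensor_comp,
      LinearMap.add_apply, LinearMap.comp_apply, hw, map_zero, add_zero, LinearMap.lTensor_id, LinearMap.id_apply]
  let incl : Kp →ₗ[R] KA := Submodule.inclusion hsub
  -- the map on `Tor₁` in terms of kernels
  have hA : Epi (((Tor (ModuleCat.{u} R) 1).obj (ModuleCat.of R L)).map (ModuleCat.ofHom q)) ↔
      ∀ w, KA.subtype.lTensor L w = 0 → ∃ v, Kp.subtype.lTensor L v = 0 ∧ incl.lTensor L v = w := by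
    show Epi ((F.leftDerived 1).map (ModuleCat.ofHom q)) ↔ _
    rw [F.leftDerived_map_eq 1 (ModuleCat.ofHom q) g (ProjectiveResolution.lift_commutes _ P Q),
      ModuleCat.epi_iff_surjective]
    show Function.Surjective (((Q.isoLeftDerivedObj F 1).inv) ∘ (HomologicalComplex.homologyMap
      ((F.mapHomologicalComplex (ComplexShape.down ℕ)).map g) 1) ∘ ((P.isoLeftDerivedObj F 1).hom)) ↔ _
    refine (Function.Surjective.of_comp_iff' (ConcreteCategory.bijective_of_isIso _) _).trans ?_
    refine (Function.Surjective.of_comp_iff _ (ConcreteCategory.bijective_of_isIso (P.isoLeftDerivedObj F 1).hom).2).trans ?_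
    refine (DMod.homologyMap_surjective_iff (i := 2) (k := 0)
      ((F.mapHomologicalComplex (ComplexShape.down ℕ)).map g) (by simp) (by simp)).trans ⟨fun h w hw => ?_, fun h x hx => ?_⟩
    · obtain ⟨x, hx⟩ := LinearMap.lTensor_surjective L (dLin Q 0).surjective_rangeRestrict (φK.lTensor L w)
      have hx0 : (dLin Q 0).lTensor L x = 0 := by
        rw [show dLin Q 0 = Kq.subtype ∘ₗ (dLin Q 0).rangeRestrict from rfl, LinearMap.lTensor_comp,
          LinearMap.comp_apply, hx, ← LinearMap.comp_apply, ← LinearMap.lTensor_comp,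
          show Kq.subtype ∘ₗ φK = φ ∘ₗ KA.subtype from rfl, LinearMap.lTensor_comp, LinearMap.comp_apply, hw, map_zero]
      obtain ⟨v, y, hv, e⟩ := h x hx0
      replace hv : (dLin P 0).lTensor L v = 0 := hv
      replace e : φ₁.lTensor L v + (dLin Q 1).lTensor L y = x := e
      refine ⟨(dLin P 0).rangeRestrict.lTensor L v, ?_, ?_⟩
      · rw [← LinearMap.comp_apply, ← LinearMap.lTensor_comp]; exact hv
      · rw [← inv₂ w hw, ← hx, ← e, map_add, ← LinearMap.comp_apply _ ((dLin Q 1).lTensor L), ← LinearMap.lTensor_comp,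
          show (dLin Q 0).rangeRestrict ∘ₗ dLin Q 1 = 0 from LinearMap.ext fun z => Subtype.ext
            ((dLin_exact Q 0).apply_apply_eq_zero z), LinearMap.lTensor_zero, LinearMap.zero_apply, add_zero,
          ← LinearMap.comp_apply _ (φ₁.lTensor L), ← LinearMap.lTensor_comp,
          show (dLin Q 0).rangeRestrict ∘ₗ φ₁ = φK ∘ₗ incl ∘ₗ (dLin P 0).rangeRestrict from LinearMap.ext fun z =>
            Subtype.ext (LinearMap.congr_fun hφd z).symm, LinearMap.lTensor_comp, LinearMap.comp_apply,
          LinearMap.lTensor_comp, LinearMap.comp_apply]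
        refine (inv₂ _ ?_).symm
        rw [← LinearMap.comp_apply, ← LinearMap.lTensor_comp, ← LinearMap.comp_apply, ← LinearMap.lTensor_comp,
          show (KA.subtype ∘ₗ incl) ∘ₗ (dLin P 0).rangeRestrict = dLin P 0 from rfl]
        exact hv
    · change L ⊗[R] (Q.complex.X 1) at x
      replace hx : (dLin Q 0).lTensor L x = 0 := hx
      let z := (dLin Q 0).rangeRestrict.lTensor L x
      have hz : Kq.subtype.lTensor L z = 0 := by
        rw [← LinearMap.comp_apply, ← LinearMap.lTensor_comp]; exact hx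
      obtain ⟨v, hv, hv'⟩ := h (bK.lTensor L z) (by
        rw [← LinearMap.comp_apply, ← LinearMap.lTensor_comp, show KA.subtype ∘ₗ bK = b ∘ₗ Kq.subtype from rfl,
          LinearMap.lTensor_comp, LinearMap.comp_apply, hz, map_zero])
      obtain ⟨w, rfl⟩ := LinearMap.lTensor_surjective L (dLin P 0).surjective_rangeRestrict v
      have hex : Function.Exact ((dLin Q 1).lTensor L) ((dLin Q 0).rangeRestrict.lTensor L) :=
        lTensor_exact L (Function.Injective.comp_exact_iff_exact (i := Kq.subtype) Kq.injective_subtype |>.1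
          (dLin_exact Q 0)) (dLin Q 0).surjective_rangeRestrict
      obtain ⟨y, hy⟩ := (hex (x - φ₁.lTensor L w)).1 (by
        rw [map_sub, sub_eq_zero, ← LinearMap.comp_apply _ (φ₁.lTensor L), ← LinearMap.lTensor_comp,
          show (dLin Q 0).rangeRestrict ∘ₗ φ₁ = φK ∘ₗ incl ∘ₗ (dLin P 0).rangeRestrict from LinearMap.ext fun z =>
            Subtype.ext (LinearMap.congr_fun hφd z).symm, LinearMap.lTensor_comp, LinearMap.comp_apply,
          LinearMap.lTensor_comp, LinearMap.comp_apply, hv', inv₁ z hz])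
      refine ⟨w, y, ?_, ?_⟩
      · show (dLin P 0).lTensor L w = 0
        rw [← LinearMap.comp_apply, ← LinearMap.lTensor_comp] at hv
        exact hv
      · show φ₁.lTensor L w + (dLin Q 1).lTensor L y = x
        rw [hy, add_sub_cancel]
  rw [hA, injective_iff_map_eq_zero]
  -- diagram chase with `0 → Kp → KA → ker q → 0`
  let t : KA →ₗ[R] LinearMap.ker q := LinearMap.codRestrict _ (π ∘ₗ KA.subtype) fun x => x.2
  have ht : Function.Surjective t := fun m => by
    obtain ⟨x, hx⟩ := hπ m
    exact ⟨⟨x, by rw [LinearMap.mem_ker, LinearMap.comp_apply, hx]; exact m.2⟩, Subtype.ext hx⟩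
  have hit : Function.Exact incl t := by
    intro x
    constructor
    · intro hx
      exact ⟨⟨x, hKp.ge (congrArg Subtype.val hx)⟩, rfl⟩
    · rintro ⟨y, rfl⟩
      exact Subtype.ext (LinearMap.mem_ker.1 (hKp.le y.2))
  have hexp : Function.Exact Kp.subtype π := by rw [hKp]; exact LinearMap.exact_subtype_ker_map π
  have hcomm : (LinearMap.ker q).subtype.lTensor L ∘ₗ t.lTensor L = π.lTensor L ∘ₗ KA.subtype.lTensor L := by
    rw [← LinearMap.lTensor_comp, ← LinearMap.lTensor_comp]; rfl
  constructor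
  · intro h a ha
    obtain ⟨w₀, rfl⟩ := LinearMap.lTensor_surjective L ht a
    rw [← LinearMap.comp_apply, hcomm, LinearMap.comp_apply] at ha
    obtain ⟨v₀, hv₀⟩ := (lTensor_exact L hexp hπ _).1 ha
    obtain ⟨v, -, hv⟩ := h (w₀ - incl.lTensor L v₀) (by
      rw [map_sub, ← hv₀, ← LinearMap.comp_apply _ (incl.lTensor L), ← LinearMap.lTensor_comp,
        show KA.subtype ∘ₗ incl = Kp.subtype from rfl, sub_self])
    refine (lTensor_exact L hit ht w₀).2 ⟨v + v₀, ?_⟩
    rw [map_add, hv, sub_add_cancel]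
  · intro h w hw
    obtain ⟨v, rfl⟩ := (lTensor_exact L hit ht w).1 (h _ (by rw [← LinearMap.comp_apply, hcomm, LinearMap.comp_apply, hw, map_zero]))
    refine ⟨v, ?_, rfl⟩
    rw [← LinearMap.comp_apply, ← LinearMap.lTensor_comp] at hw
    exact hw

end Groth.Agent.TorSurjH7
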